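import Mathlib.RingTheory.Flat.Basic
import Mathlib.RingTheory.LocalRing.MaximalIdeal.Basic
import Mathlib.RingTheory.Ideal.Maps

/-! Weakly associated maximal ideals along flat local maps with zero-dimensional closed fibre. -/

universe u

open scoped TensorProduct

namespace Groth.Agent.AssFlat7

variable {R B : Type u} [CommRing R] [CommRing B] [Algebra R B] [Module.Flat R B] [IsLocalRing R] [IsLocalRing B]
  {M : Type u} [AddCommGroup M] [Module R M]

theorem ker_tmul (m : M) : LinearMap.ker (LinearMap.toSpanSingleton B (B ⊗[R] M) ((1 : B) ⊗ₜ[R] m)) =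
    Ideal.map (algebraMap R B) (LinearMap.ker (LinearMap.toSpanSingleton R M m)) := by
  refine le_antisymm (fun b hb => ?_) (Ideal.map_le_iff_le_comap.2 fun r hr => ?_)
  · rw [LinearMap.mem_ker, LinearMap.toSpanSingleton_apply, TensorProduct.smul_tmul', smul_eq_mul, mul_one] at hb
    obtain ⟨y, hy⟩ := (Module.Flat.lTensor_exact B
      (LinearMap.exact_subtype_ker_map (LinearMap.toSpanSingleton R M m)) (b ⊗ₜ[R] (1 : R))).1 (by
        simpa using hb)
    suffices h : ∀ z : B ⊗[R] (LinearMap.ker (LinearMap.toSpanSingleton R M m)),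
        TensorProduct.rid R B (LinearMap.lTensor B (Submodule.subtype _) z) ∈
          Ideal.map (algebraMap R B) (LinearMap.ker (LinearMap.toSpanSingleton R M m)) by
      have := h y
      rwa [hy, TensorProduct.rid_tmul, one_smul] at this
    intro z
    induction z using TensorProduct.induction_on with
    | zero => simp
    | tmul c i =>
      rw [LinearMap.lTensor_tmul, TensorProduct.rid_tmul, Algebra.smul_def]
      exact Ideal.mul_mem_right _ _ (Ideal.mem_map_of_mem _ i.2)
    | add u v hu hv => rw [map_add, map_add]; exact add_mem hu hv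
  · rw [LinearMap.mem_ker, LinearMap.toSpanSingleton_apply] at hr
    rw [Ideal.mem_comap, LinearMap.mem_ker, LinearMap.toSpanSingleton_apply, algebraMap_smul,
      ← TensorProduct.tmul_smul, hr, TensorProduct.tmul_zero]

theorem exists_radical_eq {N : Type u} [AddCommGroup N] [Module B N] (e : N ≃ₗ[B] B ⊗[R] M)
    (hB : ((IsLocalRing.maximalIdeal R).map (algebraMap R B)).radical = IsLocalRing.maximalIdeal B) (m : M)
    (hm : Ideal.radical (LinearMap.ker (LinearMap.toSpanSingleton R M m)) = IsLocalRing.maximalIdeal R) :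
    ∃ n : N, Ideal.radical (LinearMap.ker (LinearMap.toSpanSingleton B N n)) = IsLocalRing.maximalIdeal B := by
  refine ⟨e.symm ((1 : B) ⊗ₜ[R] m), ?_⟩
  have h : LinearMap.ker (LinearMap.toSpanSingleton B N (e.symm ((1 : B) ⊗ₜ[R] m))) =
      LinearMap.ker (LinearMap.toSpanSingleton B (B ⊗[R] M) ((1 : B) ⊗ₜ[R] m)) := by
    ext b
    simp only [LinearMap.mem_ker, LinearMap.toSpanSingleton_apply, ← map_smul, LinearEquiv.map_eq_zero_iff]
  rw [h, ker_tmul, ← hB]
  refine le_antisymm (Ideal.radical_mono (Ideal.map_mono (hm ▸ Ideal.le_radical))) ?_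
  rw [Ideal.radical_le_radical_iff, ← hm]
  exact Ideal.map_radical_le _

end Groth.Agent.AssFlat7
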